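import Groth.Agent.S2062
import Groth.Agent.SkOpenLib.Local
import Groth.Agent.DepthTensModLib.Basic
import Groth.Agent.CommAlgDim.DepthBounds
import Groth.Agent.S1726
import Groth.Prelude.Def_EGA4b
import Groth.Prelude.Def_DualLC

/-!
# Depth and relative heights along a flat ring map
-/

set_option autoImplicit false
set_option maxHeartbeats 1000000
set_option linter.style.haveILetI false

universe u

open TensorProduct IsLocalRing

namespace LcCutLib

variable {A B : Type u} [CommRing A] [CommRing B] [Algebra A B]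

instance nontrivial_fibLocRing (q : Ideal B) [q.IsPrime] : Nontrivial (EGA4.FibLocRing A B q) := by
  refine Ideal.Quotient.nontrivial_iff.2 (ne_top_of_le_ne_top (maximalIdeal.isMaximal (Localization.AtPrime q)).ne_top ?_)
  refine Ideal.map_le_iff_le_comap.2 fun a ha => ?_
  rw [Ideal.mem_comap, IsScalarTower.algebraMap_apply A B (Localization.AtPrime q),
    ← Localization.AtPrime.map_eq_maximalIdeal]
  exact Ideal.mem_map_of_mem _ ha

/-- Depth of the base change at a prime. -/
theorem depth_loc_tensor [IsNoetherianRing A] [IsNoetherianRing B] [Module.Flat A B] (M : Type u) [AddCommGroup M] [Module A M]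
    [Module.Finite A M] (P : PrimeSpectrum B) :
    LocCoh.depth (Localization.AtPrime P.asIdeal) (LocalizedModule P.asIdeal.primeCompl (B ⊗[A] M)) =
      LocCoh.depth (Localization.AtPrime (P.asIdeal.comap (algebraMap A B)))
        (LocalizedModule (P.asIdeal.comap (algebraMap A B)).primeCompl M) +
      LocCoh.depth (EGA4.FibLocRing A B P.asIdeal) (EGA4.FibLocRing A B P.asIdeal) := by
  let q := P.asIdeal
  let p := q.comap (algebraMap A B)
  let S := Localization.AtPrime q
  let R := Localization.AtPrime p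
  haveI : q.LiesOver p := ⟨rfl⟩
  letI := Localization.AtPrime.algebraOfLiesOver p q
  haveI : IsLocalHom (algebraMap R S) :=
    inferInstanceAs (IsLocalHom (Localization.localRingHom p q (algebraMap A B) rfl))
  haveI : Module.Flat R S :=
    RingHom.flat_algebraMap_iff.mp <| RingHom.Flat.localRingHom (RingHom.flat_algebraMap_iff.mpr ‹_›) ..
  haveI : IsNoetherianRing R := IsLocalization.isNoetherianRing p.primeCompl _ inferInstance
  haveI : IsNoetherianRing S := IsLocalization.isNoetherianRing q.primeCompl _ inferInstance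
  let Mp := LocalizedModule p.primeCompl M
  haveI : Module.Finite R Mp :=
    Module.Finite.of_isLocalizedModule p.primeCompl (LocalizedModule.mkLinearMap p.primeCompl M)
  haveI : Module.Finite S (LocalizedModule q.primeCompl (B ⊗[A] M)) :=
    Module.Finite.of_isLocalizedModule q.primeCompl (LocalizedModule.mkLinearMap q.primeCompl (B ⊗[A] M))
  have h1 : IsBaseChange S (((LocalizedModule.mkLinearMap q.primeCompl (B ⊗[A] M)).restrictScalars A).comp
      (TensorProduct.mk A B M 1)) :=
    (TensorProduct.isBaseChange A M B).comp (IsLocalizedModule.isBaseChange q.primeCompl S _)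
  have h2 : IsBaseChange S (((TensorProduct.mk R S Mp 1).restrictScalars A).comp
      (LocalizedModule.mkLinearMap p.primeCompl M)) :=
    (IsLocalizedModule.isBaseChange p.primeCompl R _).comp (TensorProduct.isBaseChange R Mp S)
  rw [DepthTensModLib.depth_congr S (h1.equiv.symm.trans h2.equiv), Groth.Agent.S2062.result]
  congr 1
  let F := EGA4.FibLocRing A B q
  have h3 : (maximalIdeal R).map (algebraMap R S) • (⊤ : Submodule S S) =
      ((q.comap (algebraMap A B)).map (algebraMap A S) : Ideal S) := by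
    rw [smul_eq_mul, Ideal.mul_top, ← IsLocalization.AtPrime.map_eq_maximalIdeal p R, Ideal.map_map,
      ← IsScalarTower.algebraMap_eq]
  haveI : Module.Finite S F :=
    Module.Finite.of_surjective (Ideal.Quotient.mkₐ S _).toLinearMap Ideal.Quotient.mk_surjective
  let e : (S ⧸ ((maximalIdeal R).map (algebraMap R S) • (⊤ : Submodule S S))) ≃ₗ[S] F :=
    Submodule.quotEquivOfEq _ _ h3
  rw [DepthTensModLib.depth_congr S e]
  exact SkOpenLib.depth_of_surjective (S := F) Ideal.Quotient.mk_surjective F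

/-- The depth is at most the dimension. -/
theorem depth_le_dim (R : Type u) [CommRing R] [IsLocalRing R] [IsNoetherianRing R] :
    ((LocCoh.depth R R : ℕ∞) : WithBot ℕ∞) ≤ ringKrullDim R := by
  obtain ⟨P, hP⟩ := associatedPrimes.nonempty R R
  have h : ∀ n : ℕ, (n : ℕ∞) ≤ LocCoh.depth R R → (n : WithBot ℕ∞) ≤ ringKrullDim R := fun n hn =>
    (CommAlgDim.depth_le_ringKrullDim_quotient hP ((CommAlgDim.le_depth_iff n).1 hn)).trans
      (ringKrullDim_quotient_le P)
  obtain ⟨d, hd⟩ := WithBot.ne_bot_iff_exists.1 (ringKrullDim_ne_bot (R := R))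
  rw [← hd, WithBot.coe_le_coe]
  refine ENat.forall_natCast_le_iff_le.1 fun n hn => ?_
  have := h n hn
  rw [← hd] at this
  exact_mod_cast this

/-- The interval between a prime over `pB` and `P` embeds in the fibre at `P`. -/
theorem height_le_fib_dim {P₀ P : PrimeSpectrum B} (h : P₀ ≤ P)
    (h0 : (P.asIdeal.comap (algebraMap A B)).map (algebraMap A B) ≤ P₀.asIdeal) :
    ((Order.height (⟨P, h⟩ : Set.Ici P₀) : ℕ∞) : WithBot ℕ∞) ≤ ringKrullDim (EGA4.FibLocRing A B P.asIdeal) := by
  let S := Localization.AtPrime P.asIdeal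
  let e := CatLib.locEmb P.asIdeal.primeCompl S
  let 𝔞 : Ideal S := (P.asIdeal.comap (algebraMap A B)).map (algebraMap A S)
  rw [Order.height_eq_krullDim_Iic]
  have hex : ∀ x : Set.Iic (⟨P, h⟩ : Set.Ici P₀), ∃ y : PrimeSpectrum (S ⧸ 𝔞),
      e (PrimeSpectrum.comap (Ideal.Quotient.mk 𝔞) y) = x.1.1 := fun x => by
    obtain ⟨z, hz⟩ : x.1.1 ∈ Set.range e := by
      rw [CatLib.range_locEmb]
      exact Set.disjoint_left.2 fun a ha hax => ha ((show x.1.1 ≤ P from x.2) hax)
    have hmem : z ∈ Set.range (PrimeSpectrum.comap (Ideal.Quotient.mk 𝔞)) := by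
      rw [range_comap_of_surjective _ _ Ideal.Quotient.mk_surjective, Ideal.mk_ker, PrimeSpectrum.mem_zeroLocus,
        SetLike.coe_subset_coe]
      refine Ideal.map_le_iff_le_comap.2 fun a ha => ?_
      have h1 : algebraMap A B a ∈ x.1.1.asIdeal :=
        (show P₀ ≤ x.1.1 from x.1.2) (h0 (Ideal.mem_map_of_mem _ ha))
      rw [Ideal.mem_comap, IsScalarTower.algebraMap_apply A B S]
      rw [← hz] at h1
      exact h1
    obtain ⟨y, hy⟩ := hmem
    exact ⟨y, by rw [hy, hz]⟩
  choose f hf using hex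
  refine Order.krullDim_le_of_strictMono f fun x y hxy => lt_iff_le_not_ge.2 ?_
  have key : ∀ a b, f a ≤ f b ↔ a ≤ b := fun a b => by
    refine ⟨fun hab => ?_, fun hab => ?_⟩
    · have : e (PrimeSpectrum.comap (Ideal.Quotient.mk 𝔞) (f a)) ≤ e (PrimeSpectrum.comap (Ideal.Quotient.mk 𝔞) (f b)) :=
        e.monotone (Ideal.comap_mono hab)
      rwa [hf, hf] at this
    · have : e (PrimeSpectrum.comap (Ideal.Quotient.mk 𝔞) (f a)) ≤ e (PrimeSpectrum.comap (Ideal.Quotient.mk 𝔞) (f b)) := by
        rw [hf, hf]; exact hab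
      exact (Ideal.comap_le_comap_iff_of_surjective _ Ideal.Quotient.mk_surjective _ _).1 (e.le_iff_le.1 this)
  rw [key, key]
  exact ⟨hxy.le, hxy.not_ge⟩

theorem fib_dim_nonpos {P : PrimeSpectrum B}
    (h : P.asIdeal ∈ ((P.asIdeal.comap (algebraMap A B)).map (algebraMap A B)).minimalPrimes) :
    ringKrullDim (EGA4.FibLocRing A B P.asIdeal) ≤ 0 := by
  let S := Localization.AtPrime P.asIdeal
  let 𝔞 : Ideal S := (P.asIdeal.comap (algebraMap A B)).map (algebraMap A S)
  let e := CatLib.locEmb P.asIdeal.primeCompl S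
  have hy : ∀ y : PrimeSpectrum (S ⧸ 𝔞), e (PrimeSpectrum.comap (Ideal.Quotient.mk 𝔞) y) = P := fun y => by
    have h1 : (e (PrimeSpectrum.comap (Ideal.Quotient.mk 𝔞) y)) ≤ P := by
      have hr : e (PrimeSpectrum.comap (Ideal.Quotient.mk 𝔞) y) ∈ Set.range e := ⟨_, rfl⟩
      rw [CatLib.range_locEmb] at hr
      exact fun a ha => not_not.1 fun hn => Set.disjoint_left.1 hr hn ha
    refine le_antisymm h1 (h.2 ⟨inferInstance, Ideal.map_le_iff_le_comap.2 fun a ha => ?_⟩ h1)
    show Ideal.Quotient.mk 𝔞 (algebraMap B S (algebraMap A B a)) ∈ y.asIdeal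
    rw [← IsScalarTower.algebraMap_apply, Ideal.Quotient.eq_zero_iff_mem.2 (Ideal.mem_map_of_mem _ ha)]
    exact zero_mem _
  haveI : Subsingleton (PrimeSpectrum (S ⧸ 𝔞)) := ⟨fun a b =>
    PrimeSpectrum.comap_injective_of_surjective _ Ideal.Quotient.mk_surjective (e.injective ((hy a).trans (hy b).symm))⟩
  exact Order.krullDim_nonpos_of_subsingleton

/-- A minimal prime over `qB` has no larger relative height. -/
theorem height_le_of_minimal [IsNoetherianRing A] [IsNoetherianRing B] {P Q : PrimeSpectrum B} {p q : PrimeSpectrum A} (hPQ : P ≤ Q) (hpq : p ≤ q)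
    (hPp : P.asIdeal.comap (algebraMap A B) = p.asIdeal) (hQq : Q.asIdeal.comap (algebraMap A B) = q.asIdeal)
    (hQ : Q.asIdeal ∈ (q.asIdeal.map (algebraMap A B)).minimalPrimes) :
    Order.height (⟨Q, hPQ⟩ : Set.Ici P) ≤ Order.height (⟨q, hpq⟩ : Set.Ici p) := by
  rw [← Groth.Agent.S1726.height_map_eq, ← Groth.Agent.S1726.height_map_eq]
  haveI : P.asIdeal.LiesOver p.asIdeal := ⟨hPp.symm⟩
  let q' := q.asIdeal.map (Ideal.Quotient.mk p.asIdeal)
  let Q' := Q.asIdeal.map (Ideal.Quotient.mk P.asIdeal)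
  haveI : q'.IsPrime := Ideal.map_isPrime_of_surjective Ideal.Quotient.mk_surjective (by rw [Ideal.mk_ker]; exact hpq)
  haveI : Q'.IsPrime := Ideal.map_isPrime_of_surjective Ideal.Quotient.mk_surjective (by rw [Ideal.mk_ker]; exact hPQ)
  have hcQ : Q'.comap (Ideal.Quotient.mk P.asIdeal) = Q.asIdeal := by
    rw [Ideal.comap_map_quotientMk, sup_eq_right.2 (show P.asIdeal ≤ Q.asIdeal from hPQ)]
  haveI : Q'.LiesOver q' := ⟨by
    refine Ideal.comap_injective_of_surjective (Ideal.Quotient.mk p.asIdeal) Ideal.Quotient.mk_surjective ?_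
    rw [Ideal.under_def, Ideal.comap_comap,
      show (algebraMap (A ⧸ p.asIdeal) (B ⧸ P.asIdeal)).comp (Ideal.Quotient.mk p.asIdeal) =
        (Ideal.Quotient.mk P.asIdeal).comp (algebraMap A B) from rfl, ← Ideal.comap_comap, hcQ, hQq,
      Ideal.comap_map_quotientMk, sup_eq_right.2 (show p.asIdeal ≤ q.asIdeal from hpq)]⟩
  refine (Ideal.height_le_height_add_of_liesOver q' Q').trans ?_
  have hq'm : q'.map (algebraMap (A ⧸ p.asIdeal) (B ⧸ P.asIdeal)) =
      (q.asIdeal.map (algebraMap A B)).map (Ideal.Quotient.mk P.asIdeal) := by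
    rw [Ideal.map_map, Ideal.map_map]
    rfl
  have hle : q'.map (algebraMap (A ⧸ p.asIdeal) (B ⧸ P.asIdeal)) ≤ Q' := by
    rw [hq'm]; exact Ideal.map_mono hQ.1.2
  have hmin : Q' ∈ (q'.map (algebraMap (A ⧸ p.asIdeal) (B ⧸ P.asIdeal))).minimalPrimes := by
    refine ⟨⟨inferInstance, hle⟩, fun R hR hRQ => ?_⟩
    haveI := hR.1
    have h2 : q.asIdeal.map (algebraMap A B) ≤ R.comap (Ideal.Quotient.mk P.asIdeal) := by
      have := hR.2
      rw [hq'm] at this
      exact Ideal.map_le_iff_le_comap.1 this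
    have h3 := hQ.2 ⟨Ideal.comap_isPrime _ _, h2⟩ ((Ideal.comap_mono hRQ).trans hcQ.le)
    exact Ideal.map_le_iff_le_comap.2 h3
  haveI : (Q'.map (Ideal.Quotient.mk (q'.map (algebraMap (A ⧸ p.asIdeal) (B ⧸ P.asIdeal))))).IsPrime :=
    Ideal.map_isPrime_of_surjective Ideal.Quotient.mk_surjective (by rw [Ideal.mk_ker]; exact hle)
  rw [Ideal.height_eq_zero_iff.2 (CatLib.map_mem_minimalPrimes hmin), add_zero]

end LcCutLib
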