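import Groth.Agent.LcCutLib.Depth
import Groth.Agent.FalLib.Criteria
import Groth.Agent.DualCxLib.CompleteDual
import Groth.Agent.GeomRedFibLib.GeomApps
import Groth.Agent.GeomRedFibLib.CplQuot
import Groth.Agent.CatLib.Ratliff
import Groth.Agent.AdicRingLib.Completion
import Groth.Agent.LocCohLib.BaseChange

/-!
# The cutoff invariant and completion
-/

set_option autoImplicit false
set_option maxHeartbeats 1000000
set_option linter.style.haveILetI false
set_option linter.unusedSectionVars false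

universe u

open TensorProduct IsLocalRing

namespace LcCutLib

theorem cutoff_congr {A : Type u} [CommRing A] [IsNoetherianRing A] (I : Ideal A) {M N : Type u} [AddCommGroup M]
    [Module A M] [Module.Finite A M] [AddCommGroup N] [Module A N] [Module.Finite A N] (e : M ≃ₗ[A] N) :
    Dual2.cutoff A I M = Dual2.cutoff A I N := by
  unfold Dual2.cutoff
  refine iInf_congr fun p => iInf_congr fun q => iInf_congr fun h => iInf_congr fun _ => iInf_congr fun _ => ?_
  haveI : IsNoetherianRing (Localization.AtPrime p.asIdeal) :=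
    IsLocalization.isNoetherianRing p.asIdeal.primeCompl _ inferInstance
  haveI : Module.Finite (Localization.AtPrime p.asIdeal) (LocalizedModule p.asIdeal.primeCompl M) :=
    Module.Finite.of_isLocalizedModule p.asIdeal.primeCompl (LocalizedModule.mkLinearMap p.asIdeal.primeCompl M)
  haveI : Module.Finite (Localization.AtPrime p.asIdeal) (LocalizedModule p.asIdeal.primeCompl N) :=
    Module.Finite.of_isLocalizedModule p.asIdeal.primeCompl (LocalizedModule.mkLinearMap p.asIdeal.primeCompl N)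
  congr 1
  exact DepthTensModLib.depth_congr _ (IsLocalizedModule.mapEquiv p.asIdeal.primeCompl
    (LocalizedModule.mkLinearMap p.asIdeal.primeCompl M) (LocalizedModule.mkLinearMap p.asIdeal.primeCompl N)
    (Localization.AtPrime p.asIdeal) e)

theorem cutoff_le_term {A : Type u} [CommRing A] (I : Ideal A) (M : Type u) [AddCommGroup M] [Module A M]
    {p q : PrimeSpectrum A} (h : p ≤ q) (hp : ¬ I ≤ p.asIdeal) (hq : I ≤ q.asIdeal) :
    Dual2.cutoff A I M ≤
      LocCoh.depth (Localization.AtPrime p.asIdeal) (LocalizedModule p.asIdeal.primeCompl M) +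
        Order.height (⟨q, h⟩ : Set.Ici p) :=
  (iInf₂_le p q).trans ((iInf₂_le h hp).trans (iInf_le _ hq))

theorem le_cutoff {A : Type u} [CommRing A] {I : Ideal A} {M : Type u} [AddCommGroup M] [Module A M] {s : ℕ∞}
    (h : ∀ (p q : PrimeSpectrum A) (h : p ≤ q), ¬ I ≤ p.asIdeal → I ≤ q.asIdeal → s ≤
      LocCoh.depth (Localization.AtPrime p.asIdeal) (LocalizedModule p.asIdeal.primeCompl M) +
        Order.height (⟨q, h⟩ : Set.Ici p)) : s ≤ Dual2.cutoff A I M :=
  le_iInf₂ fun p q => le_iInf₂ fun hpq hp => le_iInf fun hq => h p q hpq hp hq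

variable (A : Type u) [CommRing A] [IsLocalRing A] [IsNoetherianRing A]

theorem exists_regular : ∃ (R : Type u) (_ : CommRing R) (_ : IsRegularRing R) (_ : Algebra R (EGA4.Cpl A)),
    Function.Surjective (algebraMap R (EGA4.Cpl A)) := by
  haveI : IsNoetherianRing (EGA4.Cpl A) := GeomRedFibLib.isNoetherianRing_cpl A
  haveI : IsAdicComplete (maximalIdeal (EGA4.Cpl A)) (EGA4.Cpl A) := by
    rw [AdicCompletion.maximalIdeal_eq_map]
    exact AdicRingLib.isAdicComplete_map (IsNoetherian.noetherian _)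
  obtain ⟨C, _, _, f, hf⟩ := Groth.Agent.DualCxLib.exists_regular_surjective (EGA4.Cpl A)
  exact ⟨C, inferInstance, CommAlgDim.isRegularRing_of_isRegularLocalRing C, f.toAlgebra, hf⟩

theorem isEquidim_quot (hA : CAlg.IsUniversallyCatenary A) (p : Ideal A) [p.IsPrime] :
    EGA4.IsEquidim (EGA4.Cpl A ⧸ p.map (algebraMap A (EGA4.Cpl A))) := by
  have h : EGA4.IsEquidim (EGA4.Cpl (A ⧸ p)) := CatLib.isFormallyCatenary_of_isUniversallyCatenary hA p
  obtain ⟨e⟩ := GeomRedFibLib.exists_cplQuotEquiv A p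
  exact CatLib.isEquidim_of_ringEquiv (((Algebra.TensorProduct.quotIdealMapEquivTensorQuot (EGA4.Cpl A) p).toRingEquiv.trans
    (Algebra.TensorProduct.comm A (EGA4.Cpl A) (A ⧸ p)).toRingEquiv).trans e.toRingEquiv).symm h

variable {A}

theorem dim_quotient_eq {R B : Type u} [CommRing R] [IsRegularRing R] [CommRing B] [IsLocalRing B] [Algebra R B]
    (hs : Function.Surjective (algebraMap R B)) (P₀ : PrimeSpectrum B) :
    ringKrullDim (B ⧸ P₀.asIdeal) =
      (((FalLib.rht R (closedPoint B) - FalLib.rht R P₀ : ℕ) : ℕ∞) : WithBot ℕ∞) := by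
  have hc : ∀ x : PrimeSpectrum B, x ≤ closedPoint B := fun x => le_maximalIdeal x.2.ne_top
  letI : OrderTop (Set.Ici P₀) :=
    { top := ⟨closedPoint B, hc P₀⟩
      le_top := fun x => hc x.1 }
  rw [ringKrullDim_quotient, ← FalLib.height_rht hs (hc P₀)]
  have h : Order.krullDim (PrimeSpectrum.zeroLocus (P₀.asIdeal : Set B)) = Order.krullDim (Set.Ici P₀) :=
    Order.krullDim_eq_of_orderIso (OrderIso.setCongr _ _ (Set.ext fun x => by
      rw [PrimeSpectrum.mem_zeroLocus, SetLike.coe_subset_coe, Set.mem_Ici]; rfl))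
  rw [h, ← Order.height_top_eq_krullDim]
  rfl

/-- Completion cannot increase the cutoff. -/
theorem cutoff_cpl_le (I : Ideal A) (M : Type u) [AddCommGroup M] [Module A M] [Module.Finite A M] :
    Dual2.cutoff (EGA4.Cpl A) (I.map (algebraMap A (EGA4.Cpl A))) (EGA4.Cpl A ⊗[A] M) ≤ Dual2.cutoff A I M := by
  haveI : IsNoetherianRing (EGA4.Cpl A) := GeomRedFibLib.isNoetherianRing_cpl A
  haveI : Module.FaithfullyFlat A (EGA4.Cpl A) := GeomRedFibLib.faithfullyFlat_hat A
  refine le_cutoff fun p q hpq hp hq => ?_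
  obtain ⟨⟨Q₁, hQ₁⟩, hQ₁q⟩ := PrimeSpectrum.comap_surjective_of_faithfullyFlat (A := A) (B := EGA4.Cpl A) q
  have hQ₁q' : Q₁.comap (algebraMap A (EGA4.Cpl A)) = q.asIdeal := congrArg PrimeSpectrum.asIdeal hQ₁q
  obtain ⟨Q₀, hQ₀, hQ₀le⟩ := Ideal.exists_minimalPrimes_le (J := Q₁)
    (Ideal.map_le_iff_le_comap.2 hQ₁q'.ge : q.asIdeal.map (algebraMap A (EGA4.Cpl A)) ≤ Q₁)
  haveI := hQ₀.1.1
  have hQq : Q₀.comap (algebraMap A (EGA4.Cpl A)) = q.asIdeal :=
    le_antisymm ((Ideal.comap_mono hQ₀le).trans hQ₁q'.le) (Ideal.map_le_iff_le_comap.1 hQ₀.1.2)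
  haveI : Q₀.LiesOver q.asIdeal := ⟨hQq.symm⟩
  obtain ⟨P₁, hP₁Q, hP₁, hP₁p⟩ := Ideal.exists_ideal_le_liesOver_of_le (p := p.asIdeal) Q₀ hpq
  obtain ⟨P₀, hP₀, hP₀le⟩ := Ideal.exists_minimalPrimes_le (J := P₁)
    (Ideal.map_le_iff_le_comap.2 hP₁p.over.le : p.asIdeal.map (algebraMap A (EGA4.Cpl A)) ≤ P₁)
  haveI := hP₀.1.1
  have hPp : P₀.comap (algebraMap A (EGA4.Cpl A)) = p.asIdeal :=
    le_antisymm ((Ideal.comap_mono hP₀le).trans hP₁p.over.ge) (Ideal.map_le_iff_le_comap.1 hP₀.1.2)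
  let P : PrimeSpectrum (EGA4.Cpl A) := ⟨P₀, inferInstance⟩
  let Q : PrimeSpectrum (EGA4.Cpl A) := ⟨Q₀, inferInstance⟩
  have hPQ : P ≤ Q := hP₀le.trans hP₁Q
  refine (cutoff_le_term _ _ hPQ (fun h => hp (hPp ▸ Ideal.map_le_iff_le_comap.1 h))
    (Ideal.map_le_iff_le_comap.2 (hQq ▸ hq : I ≤ Q₀.comap _))).trans ?_
  refine add_le_add ?_ (height_le_of_minimal hPQ hpq hPp hQq hQ₀)
  rw [depth_loc_tensor]
  obtain rfl : p = PrimeSpectrum.comap (algebraMap A (EGA4.Cpl A)) P := PrimeSpectrum.ext hPp.symm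
  have h0 : LocCoh.depth (EGA4.FibLocRing A (EGA4.Cpl A) P₀) (EGA4.FibLocRing A (EGA4.Cpl A) P₀) = 0 := by
    haveI : IsNoetherianRing (Localization.AtPrime P₀) :=
      IsLocalization.isNoetherianRing P₀.primeCompl _ inferInstance
    refine nonpos_iff_eq_zero.1 ?_
    exact_mod_cast (depth_le_dim _).trans (fib_dim_nonpos (P := P) hP₀)
  rw [h0, add_zero]
  exact le_rfl

/-- The formal fibres control the loss under completion. -/
theorem le_cutoff_cpl (hA : CAlg.IsUniversallyCatenary A) (n : ℕ) (hn : EGA4.HasSnFormalFibres n A) (I : Ideal A)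
    (M : Type u) [AddCommGroup M] [Module A M] [Module.Finite A M] :
    min ((n : ℕ∞) + 1) (Dual2.cutoff A I M) ≤
      Dual2.cutoff (EGA4.Cpl A) (I.map (algebraMap A (EGA4.Cpl A))) (EGA4.Cpl A ⊗[A] M) := by
  haveI : IsNoetherianRing (EGA4.Cpl A) := GeomRedFibLib.isNoetherianRing_cpl A
  haveI : Module.FaithfullyFlat A (EGA4.Cpl A) := GeomRedFibLib.faithfullyFlat_hat A
  obtain ⟨R, _, _, _, hs⟩ := exists_regular A
  refine le_cutoff fun P Q hPQ hP hQ => ?_
  rw [depth_loc_tensor]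
  let p := PrimeSpectrum.comap (algebraMap A (EGA4.Cpl A)) P
  let q := PrimeSpectrum.comap (algebraMap A (EGA4.Cpl A)) Q
  have hpq : p ≤ q := Ideal.comap_mono hPQ
  haveI : IsNoetherianRing ((P.asIdeal.comap (algebraMap A (EGA4.Cpl A))).Fiber (EGA4.Cpl A)) :=
    GeomRedFibLib.isNoetherianRing_fiber A (EGA4.Cpl A) _
  obtain ⟨Z, hZ, hZP⟩ := CMFlatLib.exists_fibre_point (R := A) (B := EGA4.Cpl A) P
  obtain ⟨θ, -⟩ := CMFlatLib.exists_fibreLocal_equiv (P.asIdeal.comap (algebraMap A (EGA4.Cpl A))) Z P.asIdeal hZP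
  obtain ⟨_, _, hF⟩ := (GeomRedFibLib.isFlatLocalProp_skLoc n).congr _ _ θ.symm
    ((GeomRedFibLib.hasSk_iff n _).1 (hn (P.asIdeal.comap (algebraMap A (EGA4.Cpl A)))) Z)
  rcases min_le_iff.1 hF with hF | hF
  · refine le_trans (min_le_left _ _) (add_le_add ?_ ?_)
    · refine le_trans ?_ le_add_self
      exact_mod_cast hF
    · refine Order.one_le_iff_ne_zero.2 fun h0 => hP ?_
      rw [FalLib.height_rht hs hPQ] at h0
      have h1 : FalLib.rht R Q - FalLib.rht R P = 0 := by exact_mod_cast h0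
      rcases hPQ.lt_or_eq with hlt | heq
      · have := FalLib.rht_lt (R := R) hs hlt
        omega
      · exact heq ▸ hQ
  refine le_trans (min_le_right _ _) (le_trans (cutoff_le_term I M hpq
    (fun h => hP (Ideal.map_le_iff_le_comap.2 h)) (Ideal.map_le_iff_le_comap.1 hQ)) ?_)
  rw [add_assoc]
  refine add_le_add le_rfl ?_
  obtain ⟨P₀, hP₀, hP₀le⟩ := Ideal.exists_minimalPrimes_le (J := P.asIdeal)
    (Ideal.map_comap_le : p.asIdeal.map (algebraMap A (EGA4.Cpl A)) ≤ P.asIdeal)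
  haveI := hP₀.1.1
  let P₀' : PrimeSpectrum (EGA4.Cpl A) := ⟨P₀, inferInstance⟩
  have h1 : ((FalLib.rht R P - FalLib.rht R P₀' : ℕ) : ℕ∞) ≤
      LocCoh.depth (EGA4.FibLocRing A (EGA4.Cpl A) P.asIdeal) (EGA4.FibLocRing A (EGA4.Cpl A) P.asIdeal) := by
    rw [← FalLib.height_rht hs (hP₀le : P₀' ≤ P)]
    exact_mod_cast ((height_le_fib_dim (A := A) (hP₀le : P₀' ≤ P) hP₀.1.2).trans hF)
  have h2 : ∀ P₁ ∈ (p.asIdeal.map (algebraMap A (EGA4.Cpl A))).minimalPrimes, ∀ (_ : P₁.IsPrime),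
      FalLib.rht R (⟨P₁, ‹_›⟩ : PrimeSpectrum (EGA4.Cpl A)) = FalLib.rht R P₀' := by
    intro P₁ hP₁ _
    have e1 := isEquidim_quot A hA p.asIdeal _ (CatLib.map_mem_minimalPrimes hP₁)
    have e0 := isEquidim_quot A hA p.asIdeal _ (CatLib.map_mem_minimalPrimes hP₀)
    have e := ((CatLib.ringKrullDim_quotient_quotient_map hP₁.1.2).symm.trans (e1.trans e0.symm)).trans
      (CatLib.ringKrullDim_quotient_quotient_map hP₀.1.2)
    rw [show P₁ = (⟨P₁, ‹_›⟩ : PrimeSpectrum (EGA4.Cpl A)).asIdeal from rfl, dim_quotient_eq (R := R) hs,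
      show P₀ = P₀'.asIdeal from rfl, dim_quotient_eq (R := R) hs] at e
    have e' : FalLib.rht R (closedPoint (EGA4.Cpl A)) - FalLib.rht R (⟨P₁, ‹_›⟩ : PrimeSpectrum (EGA4.Cpl A)) =
        FalLib.rht R (closedPoint (EGA4.Cpl A)) - FalLib.rht R P₀' := by exact_mod_cast e
    have := FalLib.rht_le (R := R) (show (⟨P₁, ‹_›⟩ : PrimeSpectrum (EGA4.Cpl A)) ≤ closedPoint _ from
      le_maximalIdeal Ideal.IsPrime.ne_top')
    have := FalLib.rht_le (R := R) (show P₀' ≤ closedPoint _ from le_maximalIdeal Ideal.IsPrime.ne_top')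
    omega
  refine le_trans (Order.height_le fun s hlast => ?_) (add_le_add h1 le_rfl)
  let l : LTSeries (PrimeSpectrum A) := ⟨s.length, fun i => (s i).1, fun i => s.step i⟩
  have hl : l.last = q := congrArg Subtype.val hlast
  haveI : Q.asIdeal.LiesOver l.last.asIdeal := ⟨by rw [hl]; rfl⟩
  obtain ⟨L, hLlen, hLlast, hLmap⟩ := Ideal.exists_ltSeries_of_hasGoingDown (S := EGA4.Cpl A) l Q.asIdeal
  have hhead : p.asIdeal.map (algebraMap A (EGA4.Cpl A)) ≤ L.head.asIdeal := by
    have hh : PrimeSpectrum.comap (algebraMap A (EGA4.Cpl A)) L.head = l.head := by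
      rw [← L.toList_getElem_zero_eq_head, ← l.toList_getElem_zero_eq_head,
        List.getElem_map_rev (PrimeSpectrum.comap (algebraMap A (EGA4.Cpl A))), List.getElem_of_eq hLmap _]
    exact Ideal.map_le_iff_le_comap.2 ((show p ≤ l.head from s.head.2).trans hh.ge)
  obtain ⟨P₁, hP₁, hP₁le⟩ := Ideal.exists_minimalPrimes_le hhead
  haveI := hP₁.1.1
  have hlen : ∀ (j : ℕ) (hj : j < L.length + 1), FalLib.rht R P₀' + j ≤ FalLib.rht R (L ⟨j, hj⟩) := by
    intro j
    induction j with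
    | zero =>
      intro hj
      rw [add_zero, ← h2 P₁ hP₁ inferInstance]
      exact FalLib.rht_le (show (⟨P₁, inferInstance⟩ : PrimeSpectrum (EGA4.Cpl A)) ≤ L.head from hP₁le)
    | succ j ih =>
      intro hj
      have := FalLib.rht_lt (R := R) hs (L.step ⟨j, by omega⟩)
      change FalLib.rht R (L ⟨j, by omega⟩) < FalLib.rht R (L ⟨j + 1, hj⟩) at this
      have := ih (by omega)
      omega
  have hQlen := hlen L.length (Nat.lt_succ_self _)
  rw [show L ⟨L.length, _⟩ = Q from hLlast.trans rfl] at hQlen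
  rw [FalLib.height_rht hs hPQ]
  have := FalLib.rht_le (R := R) (show P₀' ≤ P from hP₀le)
  have := FalLib.rht_le (R := R) hPQ
  have hL' : L.length = s.length := hLlen
  exact_mod_cast (show s.length ≤ (FalLib.rht R P - FalLib.rht R P₀') + (FalLib.rht R Q - FalLib.rht R P) by omega)

/-- Finiteness below the cutoff over a completion. -/
theorem finite_cpl_iff (J : Ideal (EGA4.Cpl A)) (N : Type u) [AddCommGroup N] [Module (EGA4.Cpl A) N]
    [Module.Finite (EGA4.Cpl A) N] (n : ℕ) :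
    (∀ i : ℕ, i ≤ n → Module.Finite (EGA4.Cpl A) (LocCoh.H J i N)) ↔ (n : ℕ∞) < Dual2.cutoff (EGA4.Cpl A) J N := by
  haveI : IsNoetherianRing (EGA4.Cpl A) := GeomRedFibLib.isNoetherianRing_cpl A
  obtain ⟨R, _, _, _, hs⟩ := exists_regular A
  refine ⟨fun h => ?_, fun h => ?_⟩
  · refine lt_of_lt_of_le (show (n : ℕ∞) < ((n + 1 : ℕ) : ℕ∞) by exact_mod_cast Nat.lt_succ_self n)
      (le_cutoff fun p q hpq hp hq => ?_)
    rw [FalLib.height_rht hs hpq, Nat.cast_add, Nat.cast_one]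
    exact Order.add_one_le_of_lt (FalLib.lt_depth_add_of_finite (R := R) hs J N n h hp hpq hq)
  · letI : Module R N := Module.compHom N (algebraMap R (EGA4.Cpl A))
    haveI : IsScalarTower R (EGA4.Cpl A) N := IsScalarTower.of_algebraMap_smul fun _ _ => rfl
    haveI : Module.Finite R (EGA4.Cpl A) := Module.Finite.of_surjective (Algebra.linearMap R (EGA4.Cpl A)) hs
    haveI : Module.Finite R N := Module.Finite.trans (EGA4.Cpl A) N
    refine (FalLib.finite_below_iff (R := R) hs J N n).2 fun p q hp hq hpq => ?_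
    have h1 := lt_of_lt_of_le h (cutoff_le_term J N hpq.le hp hq)
    rw [FalLib.height_rht hs hpq.le, FalLib.rht_covBy hs hpq, Nat.add_sub_cancel_left, Nat.cast_one] at h1
    exact (ENat.lt_add_one_iff' (ENat.natCast_ne_top n)).1 h1

/-- Finiteness over a local ring with Cohen–Macaulay formal fibres. -/
theorem finite_iff_lt_cutoff (hA : CAlg.IsUniversallyCatenary A) (hF : EGA4.HasCMFormalFibres A) (I : Ideal A)
    (M : Type u) [AddCommGroup M] [Module A M] [Module.Finite A M] (n : ℕ) :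
    (∀ i : ℕ, i ≤ n → Module.Finite A (LocCoh.H I i M)) ↔ (n : ℕ∞) < Dual2.cutoff A I M := by
  haveI : IsNoetherianRing (EGA4.Cpl A) := GeomRedFibLib.isNoetherianRing_cpl A
  haveI : Module.FaithfullyFlat A (EGA4.Cpl A) := GeomRedFibLib.faithfullyFlat_hat A
  have hS : ∀ k : ℕ, EGA4.HasSnFormalFibres k A := fun k p _ P _ => by
    haveI := (hF p).isCohenMacaulayLocalRing_localization P
    rw [(HenselDesc.localized_self P).1, (HenselDesc.localized_self P).2,
      ← LocCoh.IsCohenMacaulayLocalRing.supportDim_eq_depth (R := Localization.AtPrime P),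
      Module.supportDim_self_eq_ringKrullDim]
    exact min_le_right _ _
  have hfin : ∀ i, Module.Finite A (LocCoh.H I i M) ↔ Module.Finite (EGA4.Cpl A)
      (LocCoh.H (I.map (algebraMap A (EGA4.Cpl A))) i (EGA4.Cpl A ⊗[A] M)) := fun i => by
    refine ⟨fun h => Module.Finite.equiv (LocCohLib.tensLcEquiv (R' := EGA4.Cpl A) I M i), fun h => ?_⟩
    haveI := Module.Finite.equiv (LocCohLib.tensLcEquiv (R' := EGA4.Cpl A) I M i).symm
    exact Module.Finite.of_finite_tensorProduct_of_faithfullyFlat (EGA4.Cpl A)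
  simp only [hfin]
  rw [finite_cpl_iff]
  refine ⟨fun h => lt_of_lt_of_le h (cutoff_cpl_le I M), fun h => ?_⟩
  refine lt_of_lt_of_le ?_ (le_cutoff_cpl hA n (hS n) I M)
  exact lt_min (by exact_mod_cast Nat.lt_succ_self n) h

end LcCutLib
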